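import Mathlib
import Groth.Agent.HorrocksLib.Main

/-!
Finite projective modules that become isomorphic after inverting the monic polynomials are isomorphic.
-/

set_option autoImplicit false

universe u

namespace Groth.Agent.MonicDescLib

open Polynomial Matrix
open scoped LaurentPolynomial

variable {R : Type u} [CommRing R]

/-- Equivalence of two idempotent matrices. -/
def MEquiv {n m : Type} [Fintype n] [Fintype m] (e : Matrix n n R) (e' : Matrix m m R) : Prop :=
  ∃ (a : Matrix n m R) (b : Matrix m n R), a * b = e ∧ b * a = e'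

theorem MEquiv.symm {n m : Type} [Fintype n] [Fintype m] {e : Matrix n n R} {e' : Matrix m m R}
    (h : MEquiv e e') : MEquiv e' e :=
  let ⟨a, b, h1, h2⟩ := h
  ⟨b, a, h2, h1⟩

theorem MEquiv.trans {n m l : Type} [Fintype n] [Fintype m] [Fintype l] {e : Matrix n n R} {e' : Matrix m m R}
    {e'' : Matrix l l R} (he : e * e = e) (he'' : e'' * e'' = e'') (h : MEquiv e e') (h' : MEquiv e' e'') :
    MEquiv e e'' := by
  obtain ⟨a, b, hab, hba⟩ := h
  obtain ⟨a', b', hab', hba'⟩ := h'
  refine ⟨a * a', b' * b, ?_, ?_⟩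
  · rw [Matrix.mul_assoc, ← Matrix.mul_assoc a' b' b, hab', ← hba, Matrix.mul_assoc b a b, ← Matrix.mul_assoc a b, hab, he]
  · rw [Matrix.mul_assoc, ← Matrix.mul_assoc b a a', hba, ← hab', Matrix.mul_assoc a' b' a', ← Matrix.mul_assoc b' a', hba', he'']

theorem MEquiv.map {S : Type u} [CommRing S] (f : R →+* S) {n m : Type} [Fintype n] [Fintype m]
    {e : Matrix n n R} {e' : Matrix m m R} (h : MEquiv e e') : MEquiv (e.map f) (e'.map f) := by
  obtain ⟨a, b, hab, hba⟩ := h
  exact ⟨a.map f, b.map f, by rw [← Matrix.map_mul, hab], by rw [← Matrix.map_mul, hba]⟩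

variable {n m : Type} [Fintype n] [Fintype m]

/-- The glued idempotent. -/
def glue (e : Matrix n n R) (e' : Matrix m m R) (F : Matrix m n R) (G : Matrix n m R) (α β w h : R) :
    Matrix (n ⊕ m) (n ⊕ m) R :=
  Matrix.fromBlocks ((β * h) • e) (β • G) (α • F) ((α * w) • e')

theorem glue_map {S : Type u} [CommRing S] (f : R →+* S) (e : Matrix n n R) (e' : Matrix m m R)
    (F : Matrix m n R) (G : Matrix n m R) (α β w h : R) :
    (glue e e' F G α β w h).map f = glue (e.map f) (e'.map f) (F.map f) (G.map f) (f α) (f β) (f w) (f h) := by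
  ext (i | i) (j | j) <;> simp [glue]

variable (e : Matrix n n R) (e' : Matrix m m R) (F : Matrix m n R) (G : Matrix n m R) (α β w h : R)
variable (he : e * e = e) (he' : e' * e' = e') (hGF : G * F = (w * h) • e) (hFG : F * G = (w * h) • e')
  (hFe : F * e = F) (heF : e' * F = F) (heG : e * G = G) (hGe : G * e' = G) (h1 : α * w + β * h = 1)

include he he' hGF hFG hFe heF heG hGe h1 in
theorem glue_idem : glue e e' F G α β w h * glue e e' F G α β w h = glue e e' F G α β w h := by
  rw [glue, Matrix.fromBlocks_multiply]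
  simp only [Matrix.smul_mul, Matrix.mul_smul, smul_smul, he, he', hGF, hFG, hFe, heF, heG, hGe, ← add_smul]
  congr 2
  · linear_combination (β * h) * h1
  · linear_combination β * h1
  · linear_combination α * h1
  · linear_combination (α * w) * h1

include he' hGF hFG heF hGe h1 in
theorem glue_equiv_right (u : R) (hu : w * u = 1) : MEquiv (glue e e' F G α β w h) e' := by
  refine ⟨Matrix.fromRows ((β * u) • G) (α • e'), Matrix.fromCols F (w • e'), ?_, ?_⟩
  · rw [Matrix.fromRows_mul_fromCols, glue]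
    simp only [Matrix.smul_mul, Matrix.mul_smul, smul_smul, he', hGF, heF, hGe]
    congr 2
    · linear_combination (β * h) * hu
    · linear_combination β * hu
    · ring
  · rw [Matrix.fromCols_mul_fromRows]
    simp only [Matrix.smul_mul, Matrix.mul_smul, smul_smul, he', hFG, ← add_smul]
    rw [show β * u * (w * h) + α * w = 1 by linear_combination h1 + (β * h) * hu, one_smul]

include he hGF hFG hFe heG h1 in
theorem glue_equiv_left (v : R) (hv : h * v = 1) : MEquiv (glue e e' F G α β w h) e := by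
  refine ⟨Matrix.fromRows ((β * h) • e) (α • F), Matrix.fromCols e (v • G), ?_, ?_⟩
  · rw [Matrix.fromRows_mul_fromCols, glue]
    simp only [Matrix.smul_mul, Matrix.mul_smul, smul_smul, he, hFG, hFe, heG]
    congr 2
    · linear_combination β * hv
    · linear_combination (α * w) * hv
  · rw [Matrix.fromCols_mul_fromRows]
    simp only [Matrix.smul_mul, Matrix.mul_smul, smul_smul, he, hGF, ← add_smul]
    rw [show β * h + α * (v * (w * h)) = 1 by linear_combination h1 + (α * w) * hv, one_smul]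

theorem map_smul_ring {S : Type u} [CommRing S] (f : R →+* S) {p q : Type} (r : R) (M : Matrix p q R) :
    (r • M).map f = f r • M.map f := by
  ext i j
  simp

section Reflect

variable {A : Type u} [CommRing A]

theorem reflect_sum {ι : Type*} (N : ℕ) (s : Finset ι) (f : ι → A[X]) :
    reflect N (∑ i ∈ s, f i) = ∑ i ∈ s, reflect N (f i) := by
  classical
  induction s using Finset.induction with
  | empty => simp
  | insert a s ha ih => rw [Finset.sum_insert ha, Finset.sum_insert ha, reflect_add, ih]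

theorem map_reflect_mul {p q r : Type} [Fintype q] (M₁ : Matrix p q A[X]) (M₂ : Matrix q r A[X]) (N₁ N₂ : ℕ)
    (h₁ : ∀ i j, (M₁ i j).natDegree ≤ N₁) (h₂ : ∀ i j, (M₂ i j).natDegree ≤ N₂) :
    (M₁ * M₂).map (reflect (N₁ + N₂)) = M₁.map (reflect N₁) * M₂.map (reflect N₂) := by
  ext1 i j
  simp only [Matrix.map_apply, Matrix.mul_apply, reflect_sum]
  exact Finset.sum_congr rfl fun k _ => reflect_mul _ _ (h₁ i k) (h₂ k j)

theorem reflect_eq_X_pow_mul_reverse (f : A[X]) (N : ℕ) (h : f.natDegree ≤ N) :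
    reflect N f = X ^ (N - f.natDegree) * f.reverse := by
  have := reflect_mul f (1 : A[X]) (F := f.natDegree) (G := N - f.natDegree) le_rfl (by simp)
  rw [mul_one, Nat.add_sub_cancel' h, ← C_1, reflect_C, C_1, one_mul] at this
  rw [this, Polynomial.reverse, mul_comm]

variable {n m : Type} [Fintype n] [Fintype m] [DecidableEq n] [DecidableEq m]

theorem equiv_of_glue (e : Matrix n n A) (e' : Matrix m m A) (he : e * e = e) (he' : e' * e' = e')
    (F' : Matrix m n A[X]) (G' : Matrix n m A[X]) (j : ℕ) (hj : 1 ≤ j) (h : A[X]) (hh : h.coeff 0 = 1)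
    (hFe' : F' * e.map C = F') (heF' : e'.map C * F' = F') (heG' : e.map C * G' = G') (hGe' : G' * e'.map C = G')
    (hFG' : F' * G' = (X ^ j * h) • e'.map C) (hGF' : G' * F' = (X ^ j * h) • e.map C) : MEquiv e e' := by
  classical
  obtain ⟨α, β, hαβ⟩ : IsCoprime ((X : A[X]) ^ j) h := by
    refine IsCoprime.pow_left ⟨-h.divX, 1, ?_⟩
    have := Polynomial.divX_mul_X_add h
    rw [hh, C_1] at this
    linear_combination (-1 : A[X]) * this
  have hmapI : ∀ {p : Type} [Fintype p] (M : Matrix p p A), M * M = M → M.map C * M.map C = M.map C := fun M hM => by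
    rw [← Matrix.map_mul, hM]
  let P := glue (e.map C) (e'.map C) F' G' α β (X ^ j) h
  have hP : P * P = P :=
    glue_idem _ _ _ _ _ _ _ _ (hmapI e he) (hmapI e' he') hGF' hFG' hFe' heF' heG' hGe' hαβ
  have hLaurent : MEquiv (P.map HorrocksLib.chart0) ((e'.map C).map HorrocksLib.chart1) := by
    let φ : A[X] →+* A[T;T⁻¹] := HorrocksLib.chart0
    have hx : φ (X ^ j) * HorrocksLib.chart1 (X : A[X]) ^ j = 1 := by
      rw [map_pow, ← mul_pow, HorrocksLib.chart0_X_mul_chart1_X, one_pow]
    have hc1 : (e'.map C).map HorrocksLib.chart1 = (e'.map C).map φ := by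
      ext1 a b
      simp only [Matrix.map_apply, φ]
      exact HorrocksLib.chart1_C _
    rw [hc1, show P.map HorrocksLib.chart0 = P.map φ from rfl, glue_map]
    refine glue_equiv_right _ _ _ _ _ _ _ _ ?_ ?_ ?_ ?_ ?_ ?_ _ hx
    · rw [← Matrix.map_mul, hmapI e' he']
    · rw [← Matrix.map_mul, hGF', map_smul_ring, map_mul]
    · rw [← Matrix.map_mul, hFG', map_smul_ring, map_mul]
    · rw [← Matrix.map_mul, heF']
    · rw [← Matrix.map_mul, hGe']
    · rw [← map_mul, ← map_mul, ← map_add, hαβ, map_one]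
  obtain ⟨c, d, hcd, hdc⟩ := hLaurent
  obtain ⟨U, V, hUV, hVU⟩ := HorrocksLib.extended_of_matrix P (e'.map C) hP (hmapI e' he') c d hcd hdc
  let ev : A → A[X] →+* A := fun a => Polynomial.evalRingHom a
  have hevC : ∀ (a : A) {p q : Type} (M : Matrix p q A), (M.map C).map (ev a) = M := fun a p q M => by
    ext1 i k
    simp [ev]
  have h01 : MEquiv (P.map (ev 1)) (P.map (ev 0)) := by
    refine ⟨V.map (ev 1), U.map (ev 1), by rw [← Matrix.map_mul, hVU], ?_⟩
    rw [← Matrix.map_mul, hUV, hevC]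
    rfl
  have h0 : MEquiv (P.map (ev 0)) e := by
    rw [glue_map, hevC, hevC]
    refine glue_equiv_left _ _ _ _ _ _ _ _ he ?_ ?_ ?_ ?_ ?_ (ev 0 β) ?_
    · rw [← Matrix.map_mul, hGF', map_smul_ring, map_mul, hevC]
    · rw [← Matrix.map_mul, hFG', map_smul_ring, map_mul, hevC]
    · conv_rhs => rw [← hFe', Matrix.map_mul, hevC]
    · conv_rhs => rw [← heG', Matrix.map_mul, hevC]
    · rw [← map_mul, ← map_mul, ← map_add, hαβ, map_one]
    · have := congrArg (ev 0) hαβ
      rw [map_add, map_mul, map_mul, map_one, show ev 0 (X ^ j) = 0 by simp [ev, zero_pow (by omega : j ≠ 0)],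
        mul_zero, zero_add, mul_comm] at this
      exact this
  have h1' : MEquiv (P.map (ev 1)) e' := by
    rw [glue_map, hevC, hevC]
    refine glue_equiv_right _ _ _ _ _ _ _ _ he' ?_ ?_ ?_ ?_ ?_ 1 ?_
    · rw [← Matrix.map_mul, hGF', map_smul_ring, map_mul, hevC]
    · rw [← Matrix.map_mul, hFG', map_smul_ring, map_mul, hevC]
    · conv_rhs => rw [← heF', Matrix.map_mul, hevC]
    · conv_rhs => rw [← hGe', Matrix.map_mul, hevC]
    · rw [← map_mul, ← map_mul, ← map_add, hαβ, map_one]
    · simp [ev]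
  have hP0 : P.map (ev 0) * P.map (ev 0) = P.map (ev 0) := by rw [← Matrix.map_mul, hP]
  have hP1 : P.map (ev 1) * P.map (ev 1) = P.map (ev 1) := by rw [← Matrix.map_mul, hP]
  exact (h0.symm.trans he hP1 h01.symm).trans he he' h1'

theorem equiv_of_monic (e : Matrix n n A) (e' : Matrix m m A) (he : e * e = e) (he' : e' * e' = e')
    (F : Matrix m n A[X]) (G : Matrix n m A[X]) (h : A[X]) (hh : h.Monic)
    (hFe : F * e.map C = F) (heF : e'.map C * F = F) (heG : e.map C * G = G) (hGe : G * e'.map C = G)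
    (hFG : F * G = h • e'.map C) (hGF : G * F = h • e.map C) : MEquiv e e' := by
  classical
  let N : ℕ := 1 + h.natDegree + (∑ i, ∑ j, (F i j).natDegree) + ∑ i, ∑ j, (G i j).natDegree
  have hFN : ∀ i j, (F i j).natDegree ≤ N := fun i j => by
    have h1 := Finset.single_le_sum (f := fun j => (F i j).natDegree) (fun _ _ => Nat.zero_le _) (Finset.mem_univ j)
    have h2 := Finset.single_le_sum (f := fun i => ∑ j, (F i j).natDegree) (fun _ _ => Nat.zero_le _) (Finset.mem_univ i)
    simp only [N] at *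
    omega
  have hGN : ∀ i j, (G i j).natDegree ≤ N := fun i j => by
    have h1 := Finset.single_le_sum (f := fun j => (G i j).natDegree) (fun _ _ => Nat.zero_le _) (Finset.mem_univ j)
    have h2 := Finset.single_le_sum (f := fun i => ∑ j, (G i j).natDegree) (fun _ _ => Nat.zero_le _) (Finset.mem_univ i)
    simp only [N] at *
    omega
  let j := N + N - h.natDegree
  have hj : 1 ≤ j := by simp only [j, N]; omega
  have hCdeg : ∀ {p q : Type} (M : Matrix p q A) (a : p) (b : q), ((M.map C) a b).natDegree ≤ 0 := fun M a b => by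
    rw [Matrix.map_apply, natDegree_C]
  have hC0 : ∀ {p q : Type} (M : Matrix p q A), (M.map C).map (reflect 0) = M.map C := fun M => by
    ext1 a b
    simp [reflect_C]
  let F' := F.map (reflect N)
  let G' := G.map (reflect N)
  have hFe' : F' * e.map C = F' := by
    have := map_reflect_mul F (e.map C) N 0 hFN (hCdeg e)
    rw [add_zero, hFe, hC0] at this
    exact this.symm
  have heF' : e'.map C * F' = F' := by
    have := map_reflect_mul (e'.map C) F 0 N (hCdeg e') hFN
    rw [zero_add, heF, hC0] at this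
    exact this.symm
  have heG' : e.map C * G' = G' := by
    have := map_reflect_mul (e.map C) G 0 N (hCdeg e) hGN
    rw [zero_add, heG, hC0] at this
    exact this.symm
  have hGe' : G' * e'.map C = G' := by
    have := map_reflect_mul G (e'.map C) N 0 hGN (hCdeg e')
    rw [add_zero, hGe, hC0] at this
    exact this.symm
  have hsm : ∀ {p : Type} (M : Matrix p p A), (h • M.map C).map (reflect (N + N)) = (X ^ j * h.reverse) • M.map C := by
    intro p M
    ext1 a b
    simp only [Matrix.map_apply, Matrix.smul_apply, smul_eq_mul]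
    rw [mul_comm h, reflect_C_mul, reflect_eq_X_pow_mul_reverse h (N + N) (by simp only [N]; omega)]
    ring
  have hFG' : F' * G' = (X ^ j * h.reverse) • e'.map C := by
    rw [← map_reflect_mul F G N N hFN hGN, hFG, hsm]
  have hGF' : G' * F' = (X ^ j * h.reverse) • e.map C := by
    rw [← map_reflect_mul G F N N hGN hFN, hGF, hsm]
  exact equiv_of_glue e e' he he' F' G' j hj h.reverse
    (by rw [coeff_zero_reverse, hh.leadingCoeff]) hFe' heF' heG' hGe' hFG' hGF'

theorem equiv_of_localization (M : Submonoid A[X]) (hM : ∀ f : A[X], f ∈ M ↔ f.Monic)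
    (S : Type u) [CommRing S] [Algebra A[X] S] [IsLocalization M S]
    (e : Matrix n n A) (e' : Matrix m m A) (he : e * e = e) (he' : e' * e' = e')
    (hS : MEquiv ((e.map C).map (algebraMap A[X] S)) ((e'.map C).map (algebraMap A[X] S))) : MEquiv e e' := by
  classical
  let φ := algebraMap A[X] S
  obtain ⟨c₀, d₀, hcd₀, hdc₀⟩ := hS
  let E := e.map C
  let E' := e'.map C
  have hE : E * E = E := by rw [← Matrix.map_mul, he]
  have hE' : E' * E' = E' := by rw [← Matrix.map_mul, he']
  have clear : ∀ {p q : Type} [Fintype p] [Fintype q] (x : Matrix p q S),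
      ∃ (b : A[X]) (y : Matrix p q A[X]), b ∈ M ∧ y.map φ = φ b • x := by
    intro p q _ _ x
    obtain ⟨b, hb⟩ := IsLocalization.exist_integer_multiples M (Finset.univ : Finset (p × q)) (fun ij => x ij.1 ij.2)
    choose y hy using fun ij : p × q => hb ij (Finset.mem_univ _)
    refine ⟨b, Matrix.of fun i j => y (i, j), b.2, ?_⟩
    ext1 i j
    simp only [Matrix.map_apply, Matrix.of_apply, Matrix.smul_apply, smul_eq_mul]
    rw [hy (i, j), Algebra.smul_def]
  obtain ⟨b₁, y₁, hb₁, hy₁⟩ := clear d₀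
  obtain ⟨b₂, y₂, hb₂, hy₂⟩ := clear c₀
  have hle : M ≤ nonZeroDivisors A[X] := fun f hf => ((hM f).1 hf).mem_nonZeroDivisors
  have hinj : Function.Injective φ := IsLocalization.injective S hle
  have hinjM : ∀ {p q : Type} (x y : Matrix p q A[X]), x.map φ = y.map φ → x = y := fun x y h =>
    Matrix.map_injective hinj h
  have hEφ : E.map φ * E.map φ = E.map φ := by rw [← Matrix.map_mul, hE]
  have hE'φ : E'.map φ * E'.map φ = E'.map φ := by rw [← Matrix.map_mul, hE']
  have hcd : c₀ * d₀ = E.map φ := hcd₀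
  have hdc : d₀ * c₀ = E'.map φ := hdc₀
  refine equiv_of_monic e e' he he' (E' * y₁ * E) (E * y₂ * E') (b₁ * b₂)
    (((hM _).1 hb₁).mul ((hM _).1 hb₂)) ?_ ?_ ?_ ?_ ?_ ?_
  · rw [Matrix.mul_assoc, hE]
  · rw [← Matrix.mul_assoc, ← Matrix.mul_assoc, hE']
  · rw [← Matrix.mul_assoc, ← Matrix.mul_assoc, hE]
  · rw [Matrix.mul_assoc, hE']
  · apply hinjM
    rw [map_smul_ring, map_mul]
    simp only [Matrix.map_mul, hy₁, hy₂, Matrix.smul_mul, Matrix.mul_smul, smul_smul]
    rw [mul_comm (φ b₂)]
    congr 1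
    calc E'.map φ * d₀ * E.map φ * (E.map φ * c₀ * E'.map φ)
        = E'.map φ * d₀ * (E.map φ * E.map φ) * c₀ * E'.map φ := by simp only [Matrix.mul_assoc]
      _ = E'.map φ * ((d₀ * c₀) * (d₀ * c₀)) * E'.map φ := by rw [hEφ, ← hcd]; simp only [Matrix.mul_assoc]
      _ = E'.map φ := by rw [hdc, hE'φ, hE'φ, hE'φ]
  · apply hinjM
    rw [map_smul_ring, map_mul]
    simp only [Matrix.map_mul, hy₁, hy₂, Matrix.smul_mul, Matrix.mul_smul, smul_smul]
    congr 1
    calc E.map φ * c₀ * E'.map φ * (E'.map φ * d₀ * E.map φ)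
        = E.map φ * c₀ * (E'.map φ * E'.map φ) * d₀ * E.map φ := by simp only [Matrix.mul_assoc]
      _ = E.map φ * ((c₀ * d₀) * (c₀ * d₀)) * E.map φ := by rw [hE'φ, ← hdc]; simp only [Matrix.mul_assoc]
      _ = E.map φ := by rw [hcd, hEφ, hEφ, hEφ]

end Reflect

section Modules

variable {P P' : Type u} [AddCommGroup P] [Module R P] [AddCommGroup P'] [Module R P']

theorem linearEquiv_of_mequiv (x : n → P) (φ : n → (P →ₗ[R] R)) (hx : ∀ z, ∑ i, φ i z • x i = z)
    (y : m → P') (ψ : m → (P' →ₗ[R] R)) (hy : ∀ z, ∑ i, ψ i z • y i = z)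
    (h : MEquiv (Matrix.of fun i j => φ i (x j)) (Matrix.of fun i j => ψ i (y j))) : Nonempty (P ≃ₗ[R] P') := by
  obtain ⟨a, b, hab, hba⟩ := h
  let f : P →ₗ[R] P' := ∑ j, (∑ i, b j i • φ i).smulRight (y j)
  let g : P' →ₗ[R] P := ∑ i, (∑ j, a i j • ψ j).smulRight (x i)
  have key : ∀ {p q : Type} [Fintype p] [Fintype q] {Q Q' : Type u} [AddCommGroup Q] [Module R Q]
      [AddCommGroup Q'] [Module R Q'] (x : p → Q) (φ : p → (Q →ₗ[R] R)) (y : q → Q') (ψ : q → (Q' →ₗ[R] R))
      (a : Matrix p q R) (b : Matrix q p R), (∀ z, ∑ i, φ i z • x i = z) → (∀ z, ∑ i, ψ i z • y i = z) →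
      a * b = Matrix.of (fun i j => φ i (x j)) → b * a = Matrix.of (fun i j => ψ i (y j)) → ∀ z,
      (∑ i, (∑ j, a i j • ψ j).smulRight (x i)) ((∑ j, (∑ i, b j i • φ i).smulRight (y j)) z) = z := by
    intro p q _ _ Q Q' _ _ _ _ x φ y ψ a b hx hy hab hba z
    let v : p → R := fun i => φ i z
    have h1 : (Matrix.of fun i j => φ i (x j)).mulVec v = v := funext fun i => by
      simp only [Matrix.mulVec, dotProduct, Matrix.of_apply, v]
      conv_rhs => rw [← hx z, map_sum]
      exact Finset.sum_congr rfl fun k _ => by rw [map_smul, smul_eq_mul, mul_comm]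
    have h2 : ∀ j, ψ j ((∑ j, (∑ i, b j i • φ i).smulRight (y j)) z) = ((b * a).mulVec (b.mulVec v)) j := fun j => by
      rw [hba]
      simp [Matrix.mulVec, dotProduct, v, Finset.mul_sum, Finset.sum_mul, mul_comm]
    have h3 : a.mulVec ((b * a).mulVec (b.mulVec v)) = v := by
      rw [Matrix.mulVec_mulVec, Matrix.mulVec_mulVec, show a * (b * a) * b = (a * b) * (a * b) by simp only [Matrix.mul_assoc],
        hab, ← Matrix.mulVec_mulVec, h1, h1]
    conv_rhs => rw [← hx z]
    simp only [LinearMap.coe_sum, Finset.sum_apply, LinearMap.smulRight_apply, LinearMap.smul_apply, smul_eq_mul] at h2 ⊢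
    refine Finset.sum_congr rfl fun i _ => ?_
    congr 1
    refine Eq.trans ?_ (congrFun h3 i)
    simp only [Matrix.mulVec, dotProduct]
    refine Finset.sum_congr rfl fun j _ => ?_
    exact congrArg (a i j * ·) (h2 j)
  exact ⟨LinearEquiv.ofLinear f g (LinearMap.ext (key y ψ x φ b a hy hx hba hab))
    (LinearMap.ext (key x φ y ψ a b hx hy hab hba))⟩

open TensorProduct in
theorem mequiv_of_baseChange {S : Type u} [CommRing S] [Algebra R S]
    (x : n → P) (φ : n → (P →ₗ[R] R)) (hx : ∀ z, ∑ i, φ i z • x i = z)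
    (y : m → P') (ψ : m → (P' →ₗ[R] R)) (hy : ∀ z, ∑ i, ψ i z • y i = z) (f : S ⊗[R] P ≃ₗ[S] S ⊗[R] P') :
    MEquiv ((Matrix.of fun i j => φ i (x j)).map (algebraMap R S))
      ((Matrix.of fun i j => ψ i (y j)).map (algebraMap R S)) := by
  let Φ : n → (S ⊗[R] P →ₗ[S] S) := fun i => ((Algebra.linearMap R S).comp (φ i)).liftBaseChange S
  let Ψ : m → (S ⊗[R] P' →ₗ[S] S) := fun i => ((Algebra.linearMap R S).comp (ψ i)).liftBaseChange S
  have exp : ∀ {p : Type} [Fintype p] {Q : Type u} [AddCommGroup Q] [Module R Q] (x : p → Q) (φ : p → (Q →ₗ[R] R)),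
      (∀ z, ∑ i, φ i z • x i = z) → ∀ w : S ⊗[R] Q,
      ∑ i, ((Algebra.linearMap R S).comp (φ i)).liftBaseChange S w • ((1 : S) ⊗ₜ[R] x i) = w := by
    intro p _ Q _ _ x φ hx w
    induction w using TensorProduct.induction_on with
    | zero => simp
    | tmul a q =>
      conv_rhs => rw [← hx q, tmul_sum]
      refine Finset.sum_congr rfl fun i _ => ?_
      rw [LinearMap.liftBaseChange_tmul, smul_tmul', ← smul_tmul]
      congr 1
      simp [Algebra.smul_def, mul_comm]
    | add w₁ w₂ h₁ h₂ => simp only [map_add, add_smul, Finset.sum_add_distrib, h₁, h₂]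
  refine ⟨Matrix.of fun i j => Φ i (f.symm (1 ⊗ₜ y j)), Matrix.of fun j i => Ψ j (f (1 ⊗ₜ x i)), ?_, ?_⟩
  · ext1 i l
    simp only [Matrix.mul_apply, Matrix.of_apply, Matrix.map_apply]
    have h : Φ i (1 ⊗ₜ x l) = algebraMap R S (φ i (x l)) := by simp [Φ]
    rw [← h]
    conv_rhs => rw [← f.symm_apply_apply ((1 : S) ⊗ₜ x l), ← exp y ψ hy (f (1 ⊗ₜ x l)), map_sum, map_sum]
    exact Finset.sum_congr rfl fun j _ => by rw [map_smul, map_smul, smul_eq_mul, mul_comm]
  · ext1 i l
    simp only [Matrix.mul_apply, Matrix.of_apply, Matrix.map_apply]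
    have h : Ψ i (1 ⊗ₜ y l) = algebraMap R S (ψ i (y l)) := by simp [Ψ]
    rw [← h]
    conv_rhs => rw [← f.apply_symm_apply ((1 : S) ⊗ₜ y l), ← exp x φ hx (f.symm (1 ⊗ₜ y l)), map_sum, map_sum]
    exact Finset.sum_congr rfl fun j _ => by rw [map_smul, map_smul, smul_eq_mul, mul_comm]

end Modules

end Groth.Agent.MonicDescLib
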