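import Mathlib
import Groth.Agent.MonicDescLib.Basic

/-!
Finite projective modules that become isomorphic over Laurent series are isomorphic.
-/

set_option autoImplicit false

universe u

namespace Groth.Agent.MonicDescLib

open Matrix Polynomial

variable {A : Type u} [CommRing A] {n m : Type} [Fintype n] [Fintype m] [DecidableEq n] [DecidableEq m]

theorem exists_unit_factor {p : Type} [Fintype p] [DecidableEq p] (E Y : Matrix p p A[X]) (hE : E * E = E)
    (hEY : E * Y = Y) (hYE : Y * E = Y) (k : ℕ) (hY : ∀ i j, (X : A[X]) ^ (k + 1) ∣ (Y - (X : A[X]) ^ k • E) i j) :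
    ∃ (W : Matrix p p A[X]) (h : A[X]), h.coeff 0 = 1 ∧ Y * W = ((X : A[X]) ^ k * h) • E ∧
      W * Y = ((X : A[X]) ^ k * h) • E ∧ E * W = W ∧ W * E = W := by
  choose U₀ hU₀ using hY
  have h1 : Y = (X : A[X]) ^ k • E + (X : A[X]) ^ (k + 1) • Matrix.of U₀ := by
    ext1 i j
    simp only [Matrix.add_apply, Matrix.smul_apply, smul_eq_mul, Matrix.of_apply]
    rw [← hU₀ i j]
    simp [Matrix.sub_apply]
  have reg : ∀ M N : Matrix p p A[X], (X : A[X]) ^ (k + 1) • M = (X : A[X]) ^ (k + 1) • N → M = N := fun M N h => by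
    ext1 i j
    exact (monic_X_pow (R := A) (k + 1)).isRegular.left (congrFun (congrFun h i) j)
  let U := Matrix.of U₀
  have hEU : E * U = U := reg _ _ (by
    rw [h1] at hEY
    rw [Matrix.mul_add, Matrix.mul_smul, Matrix.mul_smul, hE] at hEY
    exact add_left_cancel hEY)
  have hUE : U * E = U := reg _ _ (by
    rw [h1] at hYE
    rw [Matrix.add_mul, Matrix.smul_mul, Matrix.smul_mul, hE] at hYE
    exact add_left_cancel hYE)
  let L : Matrix p p A[X] := 1 + (X : A[X]) • U
  have hYL : Y = (X : A[X]) ^ k • (E * L) := by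
    rw [h1, Matrix.mul_add, Matrix.mul_one, Matrix.mul_smul, hEU, smul_add, smul_smul, ← pow_succ]
  have hLE : L * E = E * L := by
    simp only [L, Matrix.add_mul, Matrix.mul_add, Matrix.one_mul, Matrix.mul_one, Matrix.smul_mul, Matrix.mul_smul, hEU, hUE]
  have hdet : (L.det).coeff 0 = 1 := by
    rw [← constantCoeff_apply, RingHom.map_det]
    have : (RingHom.mapMatrix (constantCoeff : A[X] →+* A)) L = 1 := by
      rw [map_add, map_one, add_eq_left]
      ext i j
      simp
    rw [this, Matrix.det_one]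
  refine ⟨E * L.adjugate * E, L.det, hdet, ?_, ?_, ?_, ?_⟩
  · have hA : E * L * (E * L.adjugate * E) = L.det • E := by
      calc E * L * (E * L.adjugate * E) = E * (L * E) * L.adjugate * E := by simp only [Matrix.mul_assoc]
        _ = (E * E) * (L * L.adjugate) * E := by rw [hLE]; simp only [Matrix.mul_assoc]
        _ = L.det • E := by rw [Matrix.mul_adjugate, Matrix.mul_smul, Matrix.mul_one, Matrix.smul_mul, hE, hE]
    rw [hYL, Matrix.smul_mul, hA, smul_smul]
  · have hA : (E * L.adjugate * E) * (E * L) = L.det • E := by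
      calc (E * L.adjugate * E) * (E * L) = E * L.adjugate * ((E * E) * L) := by simp only [Matrix.mul_assoc]
        _ = E * (L.adjugate * L) * E := by rw [hE, ← hLE]; simp only [Matrix.mul_assoc]
        _ = L.det • E := by rw [Matrix.adjugate_mul, Matrix.mul_smul, Matrix.mul_one, Matrix.smul_mul, hE]
    rw [hYL, Matrix.mul_smul, hA, smul_smul]
  · rw [← Matrix.mul_assoc, ← Matrix.mul_assoc, hE]
  · rw [Matrix.mul_assoc, hE]

open PowerSeries in
theorem equiv_of_laurent (e : Matrix n n A) (e' : Matrix m m A) (he : e * e = e) (he' : e' * e' = e')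
    (hS : MEquiv (e.map (algebraMap A (LaurentSeries A))) (e'.map (algebraMap A (LaurentSeries A)))) :
    MEquiv e e' := by
  classical
  let κ : PowerSeries A →+* LaurentSeries A := algebraMap _ _
  let φ : A[X] →+* PowerSeries A := Polynomial.coeToPowerSeries.ringHom
  obtain ⟨c, d, hcd, hdc⟩ := hS
  have hC : ∀ {p q : Type} (M : Matrix p q A), ((M.map Polynomial.C).map φ).map κ = M.map (algebraMap A (LaurentSeries A)) :=
    fun M => by
      ext1 i j
      simp [φ, κ, LaurentSeries.coe_algebraMap]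
      rw [HahnSeries.algebraMap_apply']
      simp
  let E := e.map Polynomial.C
  let E' := e'.map Polynomial.C
  have hE : E * E = E := by rw [← Matrix.map_mul, he]
  have hE' : E' * E' = E' := by rw [← Matrix.map_mul, he']
  have clear : ∀ {p q : Type} [Fintype p] [Fintype q] (x : Matrix p q (LaurentSeries A)),
      ∃ (b : ℕ) (y : Matrix p q (PowerSeries A)), y.map κ = κ (PowerSeries.X ^ b) • x := by
    intro p q _ _ x
    obtain ⟨⟨b, k, rfl⟩, hb⟩ := IsLocalization.exist_integer_multiples (Submonoid.powers (PowerSeries.X : PowerSeries A))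
      (Finset.univ : Finset (p × q)) (fun ij => x ij.1 ij.2)
    choose y hy using fun ij : p × q => hb ij (Finset.mem_univ _)
    refine ⟨k, Matrix.of fun i j => y (i, j), ?_⟩
    ext1 i j
    simp only [Matrix.map_apply, Matrix.of_apply, Matrix.smul_apply, smul_eq_mul, κ]
    rw [hy (i, j), Algebra.smul_def]
  obtain ⟨b₁, y₁, hy₁⟩ := clear d
  obtain ⟨b₂, y₂, hy₂⟩ := clear c
  let k := b₁ + b₂ + 1
  let F : Matrix m n (PowerSeries A) := E'.map φ * y₁ * E.map φ
  let G : Matrix n m (PowerSeries A) := (PowerSeries.X : PowerSeries A) • (E.map φ * y₂ * E'.map φ)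
  have hκ : Function.Injective κ := by
    show Function.Injective (algebraMap (PowerSeries A) (LaurentSeries A))
    rw [LaurentSeries.coe_algebraMap]
    exact HahnSeries.ofPowerSeries_injective (Γ := ℤ) (R := A)
  have hcd' : c * d = (E.map φ).map κ := by rw [hC]; exact hcd
  have hdc' : d * c = (E'.map φ).map κ := by rw [hC]; exact hdc
  have hEκ : (E.map φ).map κ * (E.map φ).map κ = (E.map φ).map κ := by rw [← Matrix.map_mul, ← Matrix.map_mul, hE]
  have hE'κ : (E'.map φ).map κ * (E'.map φ).map κ = (E'.map φ).map κ := by rw [← Matrix.map_mul, ← Matrix.map_mul, hE']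
  have hFG : F * G = (PowerSeries.X : PowerSeries A) ^ k • E'.map φ := by
    refine Matrix.map_injective hκ ?_
    simp only [F, G, Matrix.map_mul, map_smul_ring, hy₁, hy₂, Matrix.smul_mul, Matrix.mul_smul, smul_smul, ← map_mul]
    congr 1
    · simp only [k]; congr 1; ring
    calc (E'.map φ).map κ * d * (E.map φ).map κ * ((E.map φ).map κ * c * (E'.map φ).map κ)
        = (E'.map φ).map κ * d * ((E.map φ).map κ * (E.map φ).map κ) * c * (E'.map φ).map κ := by simp only [Matrix.mul_assoc]
      _ = (E'.map φ).map κ * ((d * c) * (d * c)) * (E'.map φ).map κ := by rw [hEκ, ← hcd']; simp only [Matrix.mul_assoc]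
      _ = (E'.map φ).map κ := by rw [hdc', hE'κ, hE'κ, hE'κ]
  have hGF : G * F = (PowerSeries.X : PowerSeries A) ^ k • E.map φ := by
    refine Matrix.map_injective hκ ?_
    simp only [F, G, Matrix.map_mul, map_smul_ring, hy₁, hy₂, Matrix.smul_mul, Matrix.mul_smul, smul_smul, ← map_mul]
    congr 1
    · simp only [k]; congr 1; ring
    calc (E.map φ).map κ * c * (E'.map φ).map κ * ((E'.map φ).map κ * d * (E.map φ).map κ)
        = (E.map φ).map κ * c * ((E'.map φ).map κ * (E'.map φ).map κ) * d * (E.map φ).map κ := by simp only [Matrix.mul_assoc]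
      _ = (E.map φ).map κ * ((c * d) * (c * d)) * (E.map φ).map κ := by rw [hE'κ, ← hdc']; simp only [Matrix.mul_assoc]
      _ = (E.map φ).map κ := by rw [hcd', hEκ, hEκ, hEκ]
  have hEP : E.map φ * E.map φ = E.map φ := by rw [← Matrix.map_mul, hE]
  have hE'P : E'.map φ * E'.map φ = E'.map φ := by rw [← Matrix.map_mul, hE']
  let F₁ : Matrix m n A[X] := E' * F.map (PowerSeries.trunc (k + 1)) * E
  let G₁ : Matrix n m A[X] := E * G.map (PowerSeries.trunc (k + 1)) * E'
  let q : PowerSeries A →+* PowerSeries A ⧸ Ideal.span {(PowerSeries.X : PowerSeries A) ^ (k + 1)} := Ideal.Quotient.mk _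
  have hq : ∀ z : PowerSeries A, q (φ (PowerSeries.trunc (k + 1) z)) = q z := fun z => by
    rw [Ideal.Quotient.eq, Ideal.mem_span_singleton, PowerSeries.X_pow_dvd_iff]
    intro i hi
    simp [φ, PowerSeries.coeff_trunc, hi, Polynomial.coeff_coe]
  have htr : ∀ {a b : Type} (M : Matrix a b (PowerSeries A)),
      ((M.map (PowerSeries.trunc (k + 1))).map φ).map q = M.map q := fun M => by
    ext1 i j
    exact hq _
  have hFq : (F₁.map φ).map q = F.map q := by
    simp only [F₁, Matrix.map_mul, htr]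
    rw [← Matrix.map_mul, ← Matrix.map_mul]
    congr 1
    calc E'.map φ * F * E.map φ = (E'.map φ * E'.map φ) * y₁ * (E.map φ * E.map φ) := by
          simp only [F, Matrix.mul_assoc]
      _ = F := by rw [hEP, hE'P]
  have hGq : (G₁.map φ).map q = G.map q := by
    simp only [G₁, Matrix.map_mul, htr]
    rw [← Matrix.map_mul, ← Matrix.map_mul]
    congr 1
    simp only [G, Matrix.mul_smul, Matrix.smul_mul]
    congr 1
    calc E.map φ * (E.map φ * y₂ * E'.map φ) * E'.map φ = (E.map φ * E.map φ) * y₂ * (E'.map φ * E'.map φ) := by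
          simp only [Matrix.mul_assoc]
      _ = _ := by rw [hEP, hE'P]
  have dvd : ∀ {p : Type} (M : Matrix p p A[X]), (M.map φ).map q = 0 → ∀ i j, (X : A[X]) ^ (k + 1) ∣ M i j := by
    intro p M hM i j
    rw [Polynomial.X_pow_dvd_iff]
    intro d hd
    have h1 : q (φ (M i j)) = 0 := congrFun (congrFun hM i) j
    rw [Ideal.Quotient.eq_zero_iff_mem, Ideal.mem_span_singleton, PowerSeries.X_pow_dvd_iff] at h1
    simpa [φ, Polynomial.coeff_coe] using h1 d hd
  have hφX : ∀ i : ℕ, φ ((X : A[X]) ^ i) = (PowerSeries.X : PowerSeries A) ^ i := fun i => by simp [φ]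
  obtain ⟨W, h, hh, -, hWY, hEW, hWE⟩ := exists_unit_factor E (G₁ * F₁) hE
    (by simp only [G₁, F₁, ← Matrix.mul_assoc, hE]) (by simp only [G₁, F₁, Matrix.mul_assoc, hE]) k (dvd _ (by
      rw [Matrix.map_sub _ (map_sub φ), Matrix.map_sub _ (map_sub q), Matrix.map_mul, Matrix.map_mul, hFq, hGq,
        ← Matrix.map_mul, hGF, map_smul_ring φ, hφX, sub_self]))
  obtain ⟨W', h', hh', hYW', -, -, -⟩ := exists_unit_factor E' (F₁ * G₁) hE'
    (by simp only [G₁, F₁, ← Matrix.mul_assoc, hE']) (by simp only [G₁, F₁, Matrix.mul_assoc, hE']) k (dvd _ (by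
      rw [Matrix.map_sub _ (map_sub φ), Matrix.map_sub _ (map_sub q), Matrix.map_mul, Matrix.map_mul, hFq, hGq,
        ← Matrix.map_mul, hFG, map_smul_ring φ, hφX, sub_self]))
  have hF1e : F₁ * E = F₁ := by simp only [F₁, Matrix.mul_assoc, hE]
  have heF1 : E' * F₁ = F₁ := by simp only [F₁, ← Matrix.mul_assoc, hE']
  have hG1e : G₁ * E' = G₁ := by simp only [G₁, Matrix.mul_assoc, hE']
  have heG1 : E * G₁ = G₁ := by simp only [G₁, ← Matrix.mul_assoc, hE]
  have hkey : h' • (W * G₁) = h • (E * (G₁ * W') * E') := by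
    have h1 : ((X : A[X]) ^ k) • (h' • (W * G₁)) = ((X : A[X]) ^ k) • (h • (E * (G₁ * W') * E')) := by
      calc ((X : A[X]) ^ k) • (h' • (W * G₁)) = W * (G₁ * (((X : A[X]) ^ k * h') • E')) := by
            simp only [Matrix.mul_smul, smul_smul, hG1e]
        _ = W * (G₁ * (F₁ * G₁ * W' * E')) := by rw [hYW', Matrix.smul_mul, hE']
        _ = (W * (G₁ * F₁)) * (G₁ * W') * E' := by simp only [Matrix.mul_assoc]
        _ = _ := by rw [hWY, Matrix.smul_mul, Matrix.smul_mul, smul_smul]
    ext1 i j
    exact (monic_X_pow (R := A) k).isRegular.left (congrFun (congrFun h1 i) j)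
  refine equiv_of_glue e e' he he' F₁ (h' • (W * G₁)) k (by omega) (h' * h)
    (by rw [Polynomial.mul_coeff_zero, hh, hh', mul_one]) hF1e heF1
    (by rw [Matrix.mul_smul, ← Matrix.mul_assoc, hEW]) (by rw [Matrix.smul_mul, Matrix.mul_assoc, hG1e]) ?_ ?_
  · rw [hkey, Matrix.mul_smul]
    calc h • (F₁ * (E * (G₁ * W') * E')) = h • ((F₁ * E) * G₁ * W' * E') := by simp only [Matrix.mul_assoc]
      _ = _ := by
        rw [hF1e, hYW', Matrix.smul_mul, hE', smul_smul]
        congr 1
        ring
  · rw [Matrix.smul_mul, Matrix.mul_assoc, hWY, smul_smul]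
    congr 1
    ring

end Groth.Agent.MonicDescLib
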